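import Groth.Agent.LiftClass29.Core
import Groth.Agent.LciLift29.Family

/-!
# Stalk sections of the extension class at a locally complete intersection
-/

set_option autoImplicit false
set_option backward.isDefEq.respectTransparency false
set_option backward.isDefEq.respectTransparency.types false
set_option linter.style.haveILetI false
set_option linter.unusedSectionVars false

universe u

open CategoryTheory CategoryTheory.Limits AlgebraicGeometry Function IsLocalRing RingTheory.Sequence
open Groth.Agent.ArtFunLib Groth.Agent.ArtFunLib.QuotLift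

noncomputable section

namespace Groth.Agent.LiftClass29

attribute [local instance] Abelian.hasFiniteBiproducts

section Algebra

variable {B O : Type u} [CommRing B] [IsLocalRing B] [IsArtinianRing B] [CommRing O] [Algebra B O]
  {G M : Type u} [AddCommGroup G] [Module B G] [Module O G] [IsScalarTower B O G] [Module.Free B G]
  [AddCommGroup M] [Module B M] {d : ℕ} {t : Fin d → B} {J : Ideal B}

/-- Lifts of a regular sequence generating the kernel modulo `m`. -/
theorem exists_lift_submodule_fam (hJ : J = Ideal.span (Set.range t)) (hind : SocleIndep t)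
    (hmJ : ∀ a ∈ maximalIdeal B, ∀ j ∈ J, a * j = 0) (hJm : J ≤ maximalIdeal B) (hM : FreeMod J M)
    (a : G →ₗ[B] M) (ha : Function.Surjective a) (rs : List O) (hrs : ∀ r ∈ rs, ∀ g : G, a (r • g) = 0)
    (hreg : IsWeaklyRegular (G ⧸ ((maximalIdeal B).map (algebraMap B O) • ⊤ : Submodule O G)) rs)
    (hPL : ∀ q, a q = 0 → ∃ l ∈ (Ideal.ofList rs • ⊤ : Submodule O G),
      q - l ∈ (maximalIdeal B • ⊤ : Submodule B G)) :
    ∃ L : Submodule O G, (∀ l ∈ L, a l = 0) ∧ (∀ q, a q = 0 → ∃ e : Fin d → G, q - ∑ i, t i • e i ∈ L) ∧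
      ∀ e : Fin d → G, ∑ i, t i • e i ∈ L → ∀ i, a (e i) ∈ (maximalIdeal B • ⊤ : Submodule B M) := by
  let L : Submodule O G := Ideal.ofList rs • ⊤
  have hL : ∀ l ∈ L, a l = 0 := fun l hl => by
    refine Submodule.smul_induction_on hl (fun r hr g _ => ?_) fun x y hx hy => by rw [map_add, hx, hy, add_zero]
    suffices h : ∀ g : G, a (r • g) = 0 from h g
    clear g ‹g ∈ (⊤ : Submodule O G)›
    induction hr using Submodule.span_induction with
    | mem r hr => exact hrs r hr
    | zero => intro g; rw [zero_smul, map_zero]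
    | add r s _ _ hr hs => intro g; rw [add_smul, map_add, hr g, hs g, add_zero]
    | smul c r _ hr => intro g; rw [smul_eq_mul, mul_comm, mul_smul]; exact hr _
  let P := LinearMap.ker a
  have htP : ∀ i e, t i • e ∈ P := fun i e => by
    rw [LinearMap.mem_ker, map_smul, hM.smul_eq_zero (t i) (hJ ▸ Ideal.subset_span ⟨i, rfl⟩)]
  refine ⟨L, hL, fun q hq => ?_, fun e he i => ?_⟩
  · let S : Submodule B P :=
      { carrier := {p | ∃ e : Fin d → G, (p : G) - ∑ i, t i • e i ∈ L}
        add_mem' := by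
          rintro x y ⟨e, he⟩ ⟨e', he'⟩
          refine ⟨e + e', ?_⟩
          have h : ((x + y : P) : G) - ∑ i, t i • (e + e') i =
              ((x : G) - ∑ i, t i • e i) + ((y : G) - ∑ i, t i • e' i) := by
            simp only [Submodule.coe_add, Pi.add_apply, smul_add, Finset.sum_add_distrib]
            abel
          rw [h]
          exact add_mem he he'
        zero_mem' := ⟨0, by simp⟩
        smul_mem' := by
          rintro c x ⟨e, he⟩
          refine ⟨c • e, ?_⟩
          have h : ((c • x : P) : G) - ∑ i, t i • (c • e) i = algebraMap B O c • ((x : G) - ∑ i, t i • e i) := by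
            rw [algebraMap_smul, smul_sub, Finset.smul_sum]
            simp only [Submodule.coe_smul, Pi.smul_apply, smul_comm c]
          rw [h]
          exact L.smul_mem _ he }
    have htop : S ⊔ maximalIdeal B • ⊤ = ⊤ := by
      refine Submodule.eq_top_iff'.2 fun p => ?_
      obtain ⟨l, hl, hd⟩ := hPL p.1 p.2
      have hlP : l ∈ P := hL l hl
      obtain ⟨e, he⟩ := exists_sub_mem_fam hJ hM a P.subtype ha P.subtype_injective
        (fun y => ⟨fun hy => ⟨⟨y, hy⟩, rfl⟩, fun ⟨z, hz⟩ => hz ▸ z.2⟩)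
        (fun i => LinearMap.codRestrict P (t i • LinearMap.id) (htP i)) (fun i e => rfl)
        (p := p - ⟨l, hlP⟩) hd
      refine Submodule.mem_sup.2 ⟨⟨l, hlP⟩ + ∑ i, LinearMap.codRestrict P (t i • LinearMap.id) (htP i) (e i),
        ⟨e, ?_⟩, _, he, by abel⟩
      simp
      exact hl
    have h : (⟨q, hq⟩ : P) ∈ S := by
      rw [CAlgH3.eq_top_of_sup_maximalIdeal _ htop]
      exact Submodule.mem_top
    exact h
  · haveI : Module.Flat B (G ⧸ L) := CAlgH3.flat_quotient_of_weaklyRegular rs G
      ((CAlgH3.weaklyRegular_iff_mod (maximalIdeal.isMaximal B).ne_top rs G).2 hreg)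
    haveI := CAlgH3.free_of_flat_artinian (A := B) (G ⧸ L)
    let b := Module.Free.chooseBasis B (G ⧸ L)
    let π : G →ₗ[B] G ⧸ L := L.mkQ.restrictScalars B
    have h0 : ∑ j, t j • π (e j) = 0 := by
      simp only [← map_smul]
      rw [← map_sum]
      exact (Submodule.Quotient.mk_eq_zero L).2 he
    have h1 : π (e i) ∈ (maximalIdeal B • ⊤ : Submodule B (G ⧸ L)) :=
      (CAlgH3.mem_smul_top_iff_repr b _ _).2 fun l => hind (fun j => b.repr (π (e j)) l) (by
        have h' := DFunLike.congr_fun (congrArg b.repr h0) l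
        rw [map_sum, map_zero, Finsupp.finsetSum_apply] at h'
        refine Eq.trans (Finset.sum_congr rfl fun j _ => ?_) h'
        rw [map_smul, Finsupp.smul_apply, smul_eq_mul, mul_comm]) i
    obtain ⟨g, hg, hge⟩ : π (e i) ∈ Submodule.map π (maximalIdeal B • ⊤ : Submodule B G) := by
      rw [Submodule.map_smul'', Submodule.map_top, LinearMap.range_eq_top.2 (show Function.Surjective π from L.mkQ_surjective)]
      exact h1
    have h3 := hL _ ((Submodule.Quotient.eq L).1 hge.symm)
    rw [map_sub, sub_eq_zero] at h3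
    rw [h3]
    exact map_smul_top_le a _ hg

end Algebra

variable {R R₀ : Type u} [CommRing R] [CommRing R₀] [IsLocalRing R] [IsArtinianRing R] {X X₀ : Scheme.{u}}
  (p : X ⟶ Spec (CommRingCat.of R)) {p₀ : X₀ ⟶ Spec (CommRingCat.of R₀)} {u : X₀ ⟶ X} [IsClosedImmersion u]
  {ψ : R →+* R₀} (hψ : Surjective ψ) (hkψ : RingHom.ker ψ = maximalIdeal R)
  (hu : IsPullback u p₀ p (Spec.map (CommRingCat.ofHom ψ))) (hsurj : Function.Surjective u)

include hψ hkψ hu hsurj in
/-- The local hypothesis from the closed fibre. -/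
theorem hloc_fam [IsLocallyNoetherian X] {J : Ideal R} {d : ℕ} {t : Fin d → R} (hJ : J = Ideal.span (Set.range t))
    (hind : SocleIndep t) (hmJ : ∀ a ∈ maximalIdeal R, ∀ j ∈ J, a * j = 0) (hJm : J ≤ maximalIdeal R)
    {E M : X.Modules} (hE : StFree p E) (a : E ⟶ M) [Epi a]
    (hM : StFreeJ p J M) (hcyc : LciLift29.StUnit E) (hlci : LciLift29.LciQuot ((Scheme.Modules.pullback u).map a)) (x : X) :
    ∃ L : Submodule (X.presheaf.stalk x) (St E x), (∀ l ∈ L, stk a x l = 0) ∧
      (∀ q, stk a x q = 0 → ∃ e : Fin d → St E x, q - ∑ i, rho p x (t i) • e i ∈ L) ∧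
        ∀ e : Fin d → St E x, ∑ i, rho p x (t i) • e i ∈ L → ∀ i, InMax p M x (stk a x (e i)) := by
  obtain ⟨z, rfl⟩ := hsurj x
  obtain ⟨ε⟩ := hcyc (u z)
  obtain ⟨rs₀, hreg₀, hker₀⟩ := hlci z
  obtain ⟨e₁, he₁⟩ : ∃ e₁ : St E (u z), ∀ v, ∃ r : X.presheaf.stalk (u z), r • e₁ = v :=
    ⟨ε 1, fun v => ⟨ε.symm v, by rw [← map_smul, smul_eq_mul, mul_one, ε.apply_symm_apply]⟩⟩
  let F := Scheme.Modules.pullback u
  let σ := (u.stalkMap z).hom
  haveI : RingHomSurjective σ := ⟨u.stalkMap_surjective z⟩
  let T : St E (u z) →ₛₗ[σ] St (F.obj E) z :=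
    { toFun := unitSt u z E
      map_add' := fun a b => map_add _ a b
      map_smul' := fun r m => unitSt_smul u z E r m }
  have hT : ∀ m, T m = unitSt u z E m := fun _ => rfl
  letI := baseMod p E (u z)
  letI := baseMod p M (u z)
  haveI : Module.Free R (St E (u z)) := hE _
  letI : Algebra R (X.presheaf.stalk (u z)) := (rho p (u z)).toAlgebra
  haveI : IsScalarTower R (X.presheaf.stalk (u z)) (St E (u z)) := IsScalarTower.of_algebraMap_smul fun _ _ => rfl
  -- lifts of the regular sequence killing `M`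
  have hlift : ∀ s ∈ rs₀, ∃ r, (∀ v, s • T v = σ r • T v) ∧ ∀ g : St E (u z), stk a (u z) (r • g) = 0 := by
    intro s hs
    obtain ⟨r₀, hr₀⟩ := u.stalkMap_surjective z s
    have hs0 : stk (F.map a) z (s • T e₁) = 0 :=
      (hker₀ _).2 (Submodule.smul_mem_smul (Ideal.subset_span hs) Submodule.mem_top)
    rw [← hr₀, ← T.map_smulₛₗ, hT, unitSt_natural] at hs0
    obtain ⟨g, hg, hga⟩ :=
      ((unitSt_eq_zero_iff_inMax p hψ hkψ hu z M _).1 hs0).exists_preimage p a
    obtain ⟨r, hr⟩ := he₁ (r₀ • e₁ - g)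
    refine ⟨r, fun v => ?_, fun v => ?_⟩
    · obtain ⟨c, rfl⟩ := he₁ v
      have h1 : σ r • T e₁ = s • T e₁ := by
        rw [← T.map_smulₛₗ, hr, map_sub, hT g, (unitSt_eq_zero_iff_inMax p hψ hkψ hu z E g).2 hg, sub_zero,
          T.map_smulₛₗ, hr₀]
      rw [T.map_smulₛₗ, smul_comm s, ← h1, smul_comm]
    · obtain ⟨c, rfl⟩ := he₁ v
      rw [smul_comm, hr, map_smul, map_sub, hga, sub_self, smul_zero]
  choose f hfT hfa using hlift
  let rs : List (X.presheaf.stalk (u z)) := rs₀.pmap f fun _ => id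
  have hkerT : ∀ m, m ∈ ((maximalIdeal R).map (algebraMap R (X.presheaf.stalk (u z))) • ⊤ :
      Submodule (X.presheaf.stalk (u z)) (St E (u z))) ↔ T m = 0 := fun m => by
    rw [hT, unitSt_eq_zero_iff_inMax p hψ hkψ hu z E m]
    exact mem_map_smul_iff p E (u z) (maximalIdeal R) m
  let Tq := Submodule.liftQ _ T fun m hm => LinearMap.mem_ker.2 ((hkerT m).1 hm)
  have hTq : Bijective Tq := by
    refine ⟨(injective_iff_map_eq_zero Tq).2 fun w hw => ?_, fun v => ?_⟩
    · obtain ⟨m, rfl⟩ := Submodule.Quotient.mk_surjective _ w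
      exact (Submodule.Quotient.mk_eq_zero _).2 ((hkerT m).2 hw)
    · obtain ⟨m, rfl⟩ := unitSt_surjective u z E v
      exact ⟨Submodule.Quotient.mk m, rfl⟩
  have hreg : IsWeaklyRegular (St E (u z) ⧸ ((maximalIdeal R).map (algebraMap R (X.presheaf.stalk (u z))) • ⊤ :
      Submodule (X.presheaf.stalk (u z)) (St E (u z)))) rs := by
    refine (LciLift29.isWeaklyRegular_congr_smul (AddEquiv.ofBijective Tq.toAddMonoidHom hTq) ?_).2 hreg₀
    rw [List.forall₂_iff_get]
    refine ⟨List.length_pmap, fun i h h' w => ?_⟩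
    obtain ⟨m, rfl⟩ := Submodule.Quotient.mk_surjective _ w
    simp only [rs, List.get_eq_getElem, List.getElem_pmap]
    show T (f _ _ • m) = _ • T m
    rw [T.map_smulₛₗ, ← hfT]
  refine exists_lift_submodule_fam hJ hind hmJ hJm (hM (u z)) (stkR p a (u z)) (surjective_stk a _) rs ?_ hreg fun q hq => ?_
  · intro r hr g
    obtain ⟨s, hs, rfl⟩ := List.mem_pmap.1 hr
    exact hfa s hs g
  · have h0 : T q ∈ (Ideal.ofList rs₀ • ⊤ : Submodule (X₀.presheaf.stalk z) (St (F.obj E) z)) :=
      (hker₀ _).1 (by rw [hT, unitSt_natural, show stk a (u z) q = 0 from hq, map_zero])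
    have hle : Ideal.ofList rs₀ • ⊤ ≤
        Submodule.map T (Ideal.ofList rs • ⊤ : Submodule (X.presheaf.stalk (u z)) (St E (u z))) := by
      refine Submodule.smul_le.2 fun r hr v hv => ?_
      suffices h : ∀ v, r • v ∈ Submodule.map T (Ideal.ofList rs • ⊤ :
          Submodule (X.presheaf.stalk (u z)) (St E (u z))) from h v
      clear hv v
      induction hr using Submodule.span_induction with
      | mem s hs =>
        intro v
        obtain ⟨m, rfl⟩ := unitSt_surjective u z E v
        exact ⟨f s hs • m, Submodule.smul_mem_smul (Ideal.subset_span (List.mem_pmap.2 ⟨s, hs, rfl⟩))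
          Submodule.mem_top, (T.map_smulₛₗ _ _).trans (hfT s hs m).symm⟩
      | zero => intro v; rw [zero_smul]; exact Submodule.zero_mem _
      | add r s _ _ hr hs => intro v; rw [add_smul]; exact Submodule.add_mem _ (hr v) (hs v)
      | smul c r _ hr => intro v; rw [smul_eq_mul, mul_smul]; exact Submodule.smul_mem _ _ (hr v)
    obtain ⟨l, hl, hlq⟩ := hle h0
    refine ⟨l, hl, (unitSt_eq_zero_iff_inMax p hψ hkψ hu z E _).1 ?_⟩
    rw [← hT, map_sub, hlq, sub_self]

include hψ hkψ hu hsurj in
/-- The extension class is split on stalks. -/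
theorem exists_stalk_section [IsLocallyNoetherian X] {J : Ideal R} {d : ℕ} {t : Fin d → R}
    (hJ : J = Ideal.span (Set.range t)) (hind : SocleIndep t) (hmJ : ∀ a ∈ maximalIdeal R, ∀ j ∈ J, a * j = 0)
    (hJm : J ≤ maximalIdeal R) (ht : ∀ i, t i ∈ J) {E M : X.Modules} (hE : StFree p E) (a : E ⟶ M) [Epi a]
    (hM : StFreeJ p J M) (hcyc : LciLift29.StUnit E)
    (hlci : LciLift29.LciQuot ((Scheme.Modules.pullback u).map a)) (z : X₀) :
    ∃ σ : St (kernel ((Scheme.Modules.pullback u).map a)) z →ₗ[X₀.presheaf.stalk z]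
        St ((Scheme.Modules.pullback u).obj (kernel a)) z, ∀ v, stk (alpha0 u a) z (σ v) = v := by
  obtain ⟨L, hLa, hcover, hflat⟩ := hloc_fam p hψ hkψ hu hsurj hJ hind hmJ hJm hE a hM hcyc hlci (u z)
  let G := (Scheme.Modules.pullback u).obj (kernel a)
  haveI : RingHomSurjective (u.stalkMap z).hom := ⟨u.stalkMap_surjective z⟩
  let T : St (kernel a) (u z) →ₛₗ[(u.stalkMap z).hom] St G z :=
    { toFun := unitSt u z (kernel a)
      map_add' := fun a b => map_add _ a b
      map_smul' := fun r m => unitSt_smul u z (kernel a) r m }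
  let SL : Submodule (X₀.presheaf.stalk z) (St G z) := Submodule.map T (L.comap (stk (kernel.ι a) (u z)))
  letI := baseMod p (kernel a) (u z)
  letI := baseMod p E (u z)
  letI := baseMod p M (u z)
  letI : Algebra R (X.presheaf.stalk (u z)) := (rho p (u z)).toAlgebra
  haveI : IsScalarTower R (X.presheaf.stalk (u z)) (St E (u z)) := IsScalarTower.of_algebraMap_smul fun _ _ => rfl
  haveI : Module.Free R (St E (u z)) := hE _
  haveI := epi_alpha0 p u hψ hkψ hu a
  have hk : ∀ q, stk a (u z) (stk (kernel.ι a) (u z) q) = 0 := fun q => by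
    rw [← stk_comp, kernel.condition, stk_zero]
  have hdec : ∀ q : St (kernel a) (u z), ∃ e : Fin d → St E (u z),
      q - ∑ i, stk (tau p a hM (ht i)) (u z) (e i) ∈ L.comap (stk (kernel.ι a) (u z)) := fun q => by
    obtain ⟨e, he⟩ := hcover _ (hk q)
    refine ⟨e, ?_⟩
    show stk (kernel.ι a) (u z) _ ∈ L
    rw [map_sub, map_sum]
    simp only [stk_tau]
    exact he
  have htau : ∀ i e, stk (alpha0 u a) z (unitSt u z _ (stk (tau p a hM (ht i)) (u z) e)) = 0 := fun i e => by
    rw [← stk_beta p u hψ hkψ hu a hM hmJ hJm, ← stk_comp, beta_alpha0, stk_zero]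
  let f : SL →ₗ[X₀.presheaf.stalk z] St (kernel ((Scheme.Modules.pullback u).map a)) z :=
    (stk (alpha0 u a) z).domRestrict SL
  have hf : Function.Bijective f := by
    refine ⟨(injective_iff_map_eq_zero f).2 ?_, fun v => ?_⟩
    · rintro ⟨_, q, hq, rfl⟩ h0
      change stk (alpha0 u a) z (unitSt u z _ q) = 0 at h0
      refine Subtype.ext ?_
      show unitSt u z _ q = 0
      have h1 : InMax p E (u z) (stk (kernel.ι a) (u z) q) := by
        refine (unitSt_eq_zero_iff_inMax p hψ hkψ hu z E _).1 ?_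
        rw [← unitSt_natural, ← kernel.lift_ι ((Scheme.Modules.pullback u).map a) _
          (show (Scheme.Modules.pullback u).map (kernel.ι a) ≫ (Scheme.Modules.pullback u).map a = 0 by
            rw [← Functor.map_comp, kernel.condition, Functor.map_zero]), stk_comp]
        exact (congrArg (stk (kernel.ι ((Scheme.Modules.pullback u).map a)) z) h0).trans (map_zero _)
      obtain ⟨e, he⟩ := exists_sub_mem_fam hJ (hM _) (stkR p a (u z)) (stkR p (kernel.ι a) (u z)) (surjective_stk a _)
        (injective_stk _ _) (exact_stk_kernel a _) (fun i => stkR p (tau p a hM (ht i)) (u z))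
        (fun i e => stk_tau p a hM (ht i) (u z) e) h1
      have hmem : ∀ m : St (kernel a) (u z), m ∈ (maximalIdeal R • ⊤ : Submodule R (St (kernel a) (u z))) →
          stk (kernel.ι a) (u z) m ∈ L := fun m hm => by
        refine Submodule.smul_induction_on hm (fun c hc p₀ _ => ?_) fun b b' hb hb' => by
          rw [map_add]; exact L.add_mem hb hb'
        obtain ⟨e', he'⟩ := hdec p₀
        have h2 := L.smul_mem (rho p (u z) c) he'
        rw [map_sub, map_sum, smul_sub, Finset.smul_sum] at h2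
        rw [Finset.sum_eq_zero (fun i _ => by
          rw [stk_tau, smul_smul, ← map_mul, hmJ c hc _ (ht i), map_zero, zero_smul]), sub_zero] at h2
        show stk (kernel.ι a) (u z) (rho p (u z) c • p₀) ∈ L
        rw [map_smul]
        exact h2
      have h2 : ∑ i, rho p (u z) (t i) • e i ∈ L := by
        have h3 := L.sub_mem hq (hmem _ he)
        rw [← map_sub, sub_sub_cancel, map_sum] at h3
        exact (congrArg (· ∈ L) (Finset.sum_congr rfl fun i _ => stk_tau p a hM (ht i) (u z) (e i))).mp h3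
      have h4 := hflat e h2
      have he' : unitSt u z (kernel a) (q - ∑ i, stk (tau p a hM (ht i)) (u z) (e i)) = 0 :=
        (unitSt_eq_zero_iff_inMax p hψ hkψ hu z _ _).2 he
      rw [show q = (q - ∑ i, stk (tau p a hM (ht i)) (u z) (e i)) + ∑ i, stk (tau p a hM (ht i)) (u z) (e i) from
        (sub_add_cancel _ _).symm, map_add, he', zero_add, map_sum]
      refine Finset.sum_eq_zero fun i _ => ?_
      rw [← stk_beta p u hψ hkψ hu a hM hmJ hJm, (unitSt_eq_zero_iff_inMax p hψ hkψ hu z M _).2 (h4 i), map_zero]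
    · obtain ⟨g, rfl⟩ := surjective_stk (alpha0 u a) z v
      obtain ⟨q, rfl⟩ := unitSt_surjective u z (kernel a) g
      obtain ⟨e, he⟩ := hdec q
      refine ⟨⟨_, _, he, rfl⟩, ?_⟩
      show stk (alpha0 u a) z (unitSt u z _ _) = _
      rw [map_sub, map_sum, map_sub, map_sum, Finset.sum_eq_zero (fun i _ => htau i _), sub_zero]
  let e := LinearEquiv.ofBijective f hf
  exact ⟨SL.subtype.comp e.symm.toLinearMap, fun v => e.apply_symm_apply v⟩

end Groth.Agent.LiftClass29

end
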