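import Groth.Agent.LciLift29.LocSplit
import Mathlib.Algebra.Homology.DerivedCategory.Ext.ExactSequences
import Mathlib.Algebra.Homology.DerivedCategory.Ext.Linear

/-!
# The class of a stalkwise split extension in the first cohomology of the internal hom
-/

set_option autoImplicit false
set_option backward.isDefEq.respectTransparency false
set_option backward.isDefEq.respectTransparency.types false
set_option linter.style.haveILetI false
universe u

open CategoryTheory CategoryTheory.Limits AlgebraicGeometry Abelian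
open Groth.Agent.Coherent Groth.Agent.ArtFunLib.QuotLift

noncomputable section

namespace Groth.Agent.LiftClass29

variable {X : Scheme.{u}} [IsLocallyNoetherian X] [HasExt.{u} X.Modules]

/-- The pushout of an extension is exact. -/
theorem shortExact_pushout {S : ShortComplex X.Modules} (hS : S.ShortExact) {Q' : X.Modules} (φ : S.X₁ ⟶ Q')
    (w : φ ≫ (0 : Q' ⟶ S.X₃) = S.f ≫ S.g) :
    (ShortComplex.mk (pushout.inr S.f φ) (pushout.desc S.g 0 w.symm) (pushout.inr_desc _ _ _)).ShortExact := by
  haveI := hS.mono_f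
  haveI := hS.epi_g
  haveI : Epi (pushout.desc S.g 0 w.symm) := epi_of_epi_fac (pushout.inl_desc S.g 0 w.symm)
  refine
  { exact := ShortComplex.exact_of_g_is_cokernel _ (CokernelCofork.IsColimit.ofπ _ _
      (fun {T} h hh => hS.gIsCokernel.desc (CokernelCofork.ofπ (f := S.f) (pushout.inl S.f φ ≫ h)
        (by
          change pushout.inr S.f φ ≫ h = 0 at hh
          rw [pushout.condition_assoc, hh, comp_zero])))
      (fun {T} h hh => ?_) (fun {T} h hh m hm => ?_)),
    mono_f := inferInstanceAs (Mono (pushout.inr S.f φ)),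
    epi_g := inferInstanceAs (Epi (pushout.desc S.g 0 w.symm)) }
  · change pushout.inr S.f φ ≫ h = 0 at hh
    apply pushout.hom_ext
    · rw [pushout.inl_desc_assoc]
      exact hS.gIsCokernel.fac _ WalkingParallelPair.one
    · rw [pushout.inr_desc_assoc, zero_comp, hh]
  · refine Cofork.IsColimit.hom_ext hS.gIsCokernel ?_
    refine Eq.trans ?_ (hS.gIsCokernel.fac (CokernelCofork.ofπ (f := S.f) (pushout.inl S.f φ ≫ h) _)
      WalkingParallelPair.one).symm
    change S.g ≫ m = pushout.inl S.f φ ≫ h
    rw [← hm]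
    exact (pushout.inl_desc_assoc S.g 0 w.symm m).symm

/-- A stalkwise split extension has a class in `H¹` of the internal hom; maps killing it extend. -/
theorem exists_class {K Q W : X.Modules} (hK : Coh.IsCoh K) [Coh.IsQCoh W] (β : Q ⟶ W) (α : W ⟶ K) (w : β ≫ α = 0)
    (hS : (ShortComplex.mk β α w).ShortExact)
    (hloc : ∀ z, ∃ σ : St K z →ₗ[X.presheaf.stalk z] St W z, ∀ v, stk α z (σ v) = v) :
    ∃ ε : Ext ((freeModOn X).obj ⊤) (internalHom K Q) 1, ∀ (Q' : X.Modules) (φ : Q ⟶ Q'),
      ε.comp (Ext.mk₀ ((internalHomFunctor K).map φ)) (add_zero 1) = 0 → ∃ r : W ⟶ Q', β ≫ r = φ := by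
  let H := internalHomFunctor K
  haveI := SerreDual.additive_internalHomFunctor K
  haveI := SerreDual.preservesFiniteLimits_internalHom K
  haveI : Mono β := hS.mono_f
  haveI : Epi (H.map α) := LciLift29.epi_internalHomMap_of_stalk_split hK α hloc
  have hH : (ShortComplex.mk (H.map β) (H.map α) (by rw [← H.map_comp, w, H.map_zero])).ShortExact :=
    { exact := hS.exact.map_of_mono_of_preservesKernel H hS.mono_f inferInstance
      mono_f := inferInstanceAs (Mono (H.map β))
      epi_g := inferInstanceAs (Epi (H.map α)) }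
  refine ⟨(Ext.mk₀ (SerreDual.idHom K)).comp hH.extClass (zero_add 1), fun Q' φ h0 => ?_⟩
  have w' : φ ≫ (0 : Q' ⟶ K) = β ≫ α := by rw [comp_zero, w]
  let β' := pushout.inr β φ
  let α' := pushout.desc α 0 w'.symm
  have w'' : β' ≫ α' = 0 := pushout.inr_desc _ _ _
  have hS' : (ShortComplex.mk β' α' w'').ShortExact := shortExact_pushout hS φ w'
  haveI : Epi (H.map α') := epi_of_epi_fac (f := H.map (pushout.inl β φ)) (h := H.map α)
    (by rw [← H.map_comp, pushout.inl_desc])
  haveI : Mono β' := hS'.mono_f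
  have hH' : (ShortComplex.mk (H.map β') (H.map α') (by rw [← H.map_comp, w'', H.map_zero])).ShortExact :=
    { exact := hS'.exact.map_of_mono_of_preservesKernel H hS'.mono_f inferInstance
      mono_f := inferInstanceAs (Mono (H.map β'))
      epi_g := inferInstanceAs (Epi (H.map α')) }
  let f : ShortComplex.mk (H.map β) (H.map α) (by rw [← H.map_comp, w, H.map_zero]) ⟶
      ShortComplex.mk (H.map β') (H.map α') (by rw [← H.map_comp, w'', H.map_zero]) :=
    { τ₁ := H.map φ
      τ₂ := H.map (pushout.inl β φ)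
      τ₃ := 𝟙 _
      comm₁₂ := by
        show H.map φ ≫ H.map β' = H.map β ≫ H.map (pushout.inl β φ)
        rw [← H.map_comp, ← H.map_comp, pushout.condition]
      comm₂₃ := by
        show H.map (pushout.inl β φ) ≫ H.map α' = H.map α ≫ 𝟙 _
        rw [Category.comp_id, ← H.map_comp, pushout.inl_desc] }
  have h1 : (Ext.mk₀ (SerreDual.idHom K)).comp hH'.extClass (zero_add 1) = 0 := by
    rw [Ext.comp_assoc _ _ _ (zero_add 1) (add_zero 1) (by simp),
      ShortComplex.ShortExact.extClass_naturality hH hH' f, Ext.mk₀_id_comp] at h0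
    exact h0
  obtain ⟨y, hy⟩ := Ext.covariant_sequence_exact₃ ((freeModOn X).obj ⊤) hH' (Ext.mk₀ (SerreDual.idHom K))
    (zero_add 1) h1
  obtain ⟨η, rfl⟩ := (Ext.mk₀_bijective _ _).2 y
  rw [Ext.mk₀_comp_mk₀] at hy
  have hη : η ≫ H.map α' = SerreDual.idHom K := (Ext.mk₀_bijective _ _).1 hy
  obtain ⟨g, hg⟩ := (SerreDual.bijective_idHom_comp K _).2 η
  have hgα : g ≫ α' = 𝟙 K := by
    refine (SerreDual.bijective_idHom_comp K K).1 ?_
    show SerreDual.idHom K ≫ H.map (g ≫ α') = SerreDual.idHom K ≫ H.map (𝟙 K)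
    rw [H.map_comp, ← Category.assoc, H.map_id, Category.comp_id]
    exact (congrArg (· ≫ H.map α') hg).trans hη
  let s := ShortComplex.Splitting.ofExactOfSection (ShortComplex.mk β' α' w'') hS'.exact g hgα hS'.mono_f
  refine ⟨pushout.inl β φ ≫ s.r, ?_⟩
  rw [pushout.condition_assoc, show pushout.inr β φ ≫ s.r = 𝟙 _ from s.f_r]
  exact Category.comp_id φ

end Groth.Agent.LiftClass29

end
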