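import Groth.Agent.LiftClass29.Obstruction
import Groth.Agent.LiftClass29.LciSection
import Groth.Agent.LiftClass29.SplitClass
import Groth.Agent.LciLift29.Point
import Groth.Agent.EGA43.InjFibre.Scheme

/-!
# Linear obstruction classes of embedded deformations of a local complete intersection in `H¹` of the normal sheaf
-/

set_option autoImplicit false
set_option backward.isDefEq.respectTransparency false
set_option backward.isDefEq.respectTransparency.types false
set_option linter.style.haveILetI false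
set_option linter.unusedSectionVars false
set_option maxHeartbeats 1000000

universe u

open CategoryTheory CategoryTheory.Abelian CategoryTheory.Limits AlgebraicGeometry Function IsLocalRing ArtFun
open Groth.Agent.ArtFunLib.QuotLift Groth.Agent.Coherent

noncomputable section

namespace Groth.Agent.LiftClass29

attribute [local instance] Abelian.hasFiniteBiproducts

variable {k : Type u} [Field k] (X : Scheme.{u}) (x : X ⟶ Spec (CommRingCat.of k)) [LocallyOfFiniteType x]
  {Y : Scheme.{u}} [Y.Over (Spec (CommRingCat.of k))] (i : Y ⟶ X) [IsClosedImmersion i]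
  (hi : i ≫ x = Y ↘ Spec (CommRingCat.of k)) (hreg : Mor2.IsRegularClosedImmersion i)
  [HasExt.{u} Y.Modules]

include hi hreg in
/-- Vanishing classes give lifts of the quotient. -/
theorem exists_obsMap_emb (C₀ : Art k k) (J : Ideal C₀) (hJm : J ≤ maximalIdeal C₀)
    (hJ0 : ∀ a ∈ maximalIdeal C₀, ∀ z ∈ J, a * z = 0) (KA : FGA.QuotSet x (OX X) (TA (Art.quot C₀ J hJm)))
    (hKA : fibreK x (OX X) KA.1 = KofI X x (i.ker.comap (pullback.fst x (TA (Art.base k k)).hom))) :
    ∃ o : (↥J →ₗ[k] k) →ₗ[k]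
        Ext ((Coherent.freeModOn Y).obj ⊤) (internalHom (Omega.conormal i) (Coh.structureModule Y)) 1,
      ∀ ℓ, o ℓ = 0 →
      ∀ (L : Ideal C₀) (hL : L ≤ maximalIdeal C₀) (hLJ : L ≤ J),
        (∀ z (hz : z ∈ J), z ∈ L ↔ ℓ ⟨z, hz⟩ = 0) →
          ∀ (g' : Art.quot C₀ L hL ⟶ Art.quot C₀ J hJm),
            (∀ z, g' (Art.quotMk C₀ L hL z) = Art.quotMk C₀ J hJm z) →
            ∃ K' : FGA.QuotSet x (OX X) (TA (Art.quot C₀ L hL)), FGA.quotPull x (OX X) (gA g') K'.1 = KA.1 := by
  classical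
  let E := OX X
  have hE : Coh.IsCoh E := by
    haveI : IsLocallyNoetherian X := LocallyOfFiniteType.isLocallyNoetherian x
    exact Coherent.isCoh_structureModule X
  let p := Art.quotMk C₀ J hJm
  have hp : Function.Surjective p := Art.quotMk_surjective _ _ _
  have hker : RingHom.ker p.toAlgHom.toRingHom = J := by
    ext z
    exact Ideal.Quotient.eq_zero_iff_mem
  haveI := finite_art C₀
  haveI : Module.Finite k ↥J :=
    Module.Finite.of_injective ((Submodule.subtype J).restrictScalars k) Subtype.val_injective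
  let b := Module.finBasis k ↥J
  obtain ⟨hind, hJspan⟩ := socleIndep_basis hJ0 b
  let t : Fin (Module.finrank k ↥J) → C₀ := fun j => (b j : C₀)
  have ht : ∀ j, t j ∈ J := fun j => (b j).2
  let π := PicF.XTproj x (TA C₀)
  let u := uB x C₀
  haveI : IsClosedImmersion u := isClosedImmersion_XTmap x _ (surjective_toBase C₀)
  haveI : IsClosedImmersion (PicF.XTmap x (gA p)) := isClosedImmersion_XTmap x p hp
  let a := quotA x E p KA.1
  haveI : Epi a := epi_quotA x E p hp KA.1
  have hM : StFreeJ π J (pushQ x E p KA.1) := fun z => by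
    have h := stFreeJ_pushQ x E p hp KA.1 KA.2.2 z
    rw [hker] at h
    exact h
  haveI : IsLocallyNoetherian X := LocallyOfFiniteType.isLocallyNoetherian x
  haveI : IsLocallyNoetherian (PicF.XT x (TA C₀)) := Quot8.isLocallyNoetherian_XT x
  haveI : IsLocallyNoetherian (PicF.XT x (TA (Art.base k k))) := Quot8.isLocallyNoetherian_XT x
  haveI : IsLocallyNoetherian (PicF.XT x (TA (Art.quot C₀ J hJm))) := Quot8.isLocallyNoetherian_XT x
  haveI : IsLocallyNoetherian Y := LocallyOfFiniteType.isLocallyNoetherian i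
  let Z := PicF.XT x (TA (Art.base k k))
  let e : Z ⟶ X := pullback.fst x (TA (Art.base k k)).hom
  haveI : IsIso e := isIso_fst_base X x
  let Qu := (Scheme.Modules.pullback u).obj (pushQ x E p KA.1)
  let G := (Scheme.Modules.pullback u).obj (kernel a)
  obtain ⟨⟨eK⟩, ⟨eQ⟩⟩ := exists_fibre_iso x E p hp KA.1
  obtain ⟨⟨eKI⟩, ⟨eQI⟩⟩ := exists_fibre_iso_ideal X x i.ker
  -- the closed fibre is a local complete intersection
  have hlci : LciLift29.LciQuot ((Scheme.Modules.pullback u).map a) := by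
    let J₀ := i.ker.comap e
    let θ := Quot8.thetaT x (TA (Art.base k k))
    have h0 : LciLift29.LciQuot (Quot8.qI θ J₀) :=
      LciLift29.lciQuot_push _ (LciLift29.stkReg_comap i.ker (LciLift29.isRegular_ker i hreg) e) θ _
    obtain ⟨v, hv⟩ := Quot8.exists_cokernel_kernelSubobject_iso (Quot8.qI θ J₀)
    have h1 : LciLift29.LciQuot (cokernel.π (KofI X x J₀).arrow) := by
      refine h0.of_iso (Iso.refl _) v.symm ?_
      show cokernel.π (kernelSubobject (Quot8.qI θ J₀)).arrow = 𝟙 _ ≫ Quot8.qI θ J₀ ≫ v.inv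
      rw [Category.id_comp, ← Category.comp_id (cokernel.π _), ← v.hom_inv_id, ← Category.assoc, hv]
    have h : fibreK x E KA.1 = kernelSubobject (Quot8.bcQ x E (gA (Art.toBase C₀)) a) := by
      rw [← Quot8.quotPull_kernelSubobject]
      conv_lhs => rw [← quotPull_kernel_quotA x E p hp KA.1]
      exact fibreK_pull x E p _
    haveI : Epi (Quot8.bcQ x E (gA (Art.toBase C₀)) a) := Quot8.epi_bcQ x E (gA (Art.toBase C₀)) a
    obtain ⟨w, hw⟩ := Quot8.exists_cokernel_kernelSubobject_iso (Quot8.bcQ x E (gA (Art.toBase C₀)) a)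
    rw [← hKA, h] at h1
    refine h1.of_iso (FGA.ETiso x E (gA (Art.toBase C₀))) w ?_
    rw [hw, Quot8.bcQ_eq, Iso.hom_inv_id_assoc]
  rw [hKA] at eK eQ
  -- back to the closed subscheme
  let f : Y ⟶ Z := i ≫ inv e
  have hfe : f ≫ e = i := by simp [f]
  haveI : IsClosedImmersion f := inferInstanceAs (IsClosedImmersion (i ≫ inv e))
  have hex : e ≫ x = projB x := by
    have h : (TA (Art.base k k)).hom = 𝟙 _ := by
      show Art.specMap (Art.ofBase (Art.base k k)) = _
      rw [show Art.ofBase (Art.base k k) = 𝟙 _ from Art.hom_ext (AlgHom.ext fun c => rfl), Art.specMap_id]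
      rfl
    exact pullback.condition.trans ((congrArg (pullback.snd x (TA (Art.base k k)).hom ≫ ·) h).trans (Category.comp_id _))
  have hfq : f ≫ projB x = Y ↘ Spec (CommRingCat.of k) := by
    rw [← hex, ← Category.assoc, hfe, hi]
  let F := Scheme.Modules.pullback f
  let ad := Scheme.Modules.pullbackPushforwardAdjunction f
  haveI : F.IsLeftAdjoint := ad.isLeftAdjoint
  haveI : F.Additive := ad.left_adjoint_additive
  let O := Coh.structureModule Y
  let Kc := Omega.conormal i
  have hKc : Coh.IsCoh Kc := ZClosLib.isCoh_pullback _ _ (CurveRR24.isCoh_idealMod' i.ker)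
  let eC : F.obj (kernel ((Scheme.Modules.pullback u).map a)) ≅ Kc :=
    F.mapIso (eK.symm ≪≫ eKI.symm) ≪≫ (Scheme.Modules.pullbackComp f e).app _ ≪≫
      (Scheme.Modules.pullbackCongr hfe).app _
  let μ₀ : ClSub.quotMod i.ker ≅ (Scheme.Modules.pushforward i).obj O :=
    (Scheme.Modules.pushforward i.ker.subschemeι).mapIso (FlatCx12.RelPCOps.pushStructureIso (asIso i.toImage)).symm ≪≫
      (Scheme.Modules.pushforwardComp i.toImage i.ker.subschemeι).app _ ≪≫
        (Scheme.Modules.pushforwardCongr i.toImage_imageι).app _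
  haveI := DCat.ClosedPush.isIso_counit e ((Scheme.Modules.pushforward f).obj O)
  let μ : Qu ≅ (Scheme.Modules.pushforward f).obj O :=
    eQ.symm ≪≫ eQI.symm ≪≫ (Scheme.Modules.pullback e).mapIso (μ₀ ≪≫ (Scheme.Modules.pushforwardCongr hfe.symm).app _ ≪≫
      ((Scheme.Modules.pushforwardComp f e).app O).symm) ≪≫
      asIso ((Scheme.Modules.pullbackPushforwardAdjunction e).counit.app _)
  let β := bMap π u (surjective_toBase C₀) (ker_toBase C₀) (isPullback_XT x (Art.toBase C₀)) a hM hJ0 hJm t ht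
  let α := alpha0 u a
  have hS : (ShortComplex.mk β α (bMap_alpha0 π u (surjective_toBase C₀) (ker_toBase C₀)
      (isPullback_XT x (Art.toBase C₀)) a hM hJ0 hJm t ht)).ShortExact :=
    shortExact_bMap (R := C₀) π u (surjective_toBase C₀) (ker_toBase C₀) (isPullback_XT x (Art.toBase C₀))
      (stFree_ET x E C₀) a hM hJ0 hJm t ht hJspan hind
  have hsec : ∀ z, ∃ σ : St (kernel ((Scheme.Modules.pullback u).map a)) z →ₗ[Z.presheaf.stalk z] St G z,
      ∀ v, stk α z (σ v) = v :=
    exists_stalk_section π (surjective_toBase C₀) (ker_toBase C₀) (isPullback_XT x (Art.toBase C₀))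
      (surjective_XTmap x _) hJspan hind hJ0 hJm ht (stFree_ET x E C₀) a hM
      (LciLift29.stUnit_of_iso (Quot8.thetaT x (TA C₀))) hlci
  haveI : Mono (F.map β) := LciLift29.mono_pullback_of_stalk_split f β α _ hS hsec
  haveI : Epi α := hS.epi_g
  haveI : Epi (F.map α) := F.map_epi α
  have w' : F.map β ≫ F.map α ≫ eC.hom = 0 := by
    rw [← F.map_comp_assoc, bMap_alpha0, F.map_zero, zero_comp]
  have hS' : (ShortComplex.mk (F.map β) (F.map α ≫ eC.hom) w').ShortExact :=
    { exact := (ShortComplex.exact_iff_of_iso (ShortComplex.isoMk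
        (S₁ := ShortComplex.mk (F.map β) (F.map α) (by rw [← F.map_comp, bMap_alpha0, F.map_zero]))
        (S₂ := ShortComplex.mk (F.map β) (F.map α ≫ eC.hom) w')
        (Iso.refl _) (Iso.refl _) eC (by simp) (by simp))).1
          (hS.exact.map_of_epi_of_preservesCokernel F hS.epi_g inferInstance)
      mono_f := inferInstanceAs (Mono (F.map β))
      epi_g := inferInstanceAs (Epi (F.map α ≫ eC.hom)) }
  have hMc : Coh.IsCoh (pushQ x E p KA.1) := Coherent.Existence.isCoh_push_of_isProper _ KA.2.1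
  haveI : Coh.IsQCoh G :=
    (ZClosLib.isCoh_pullback u _ (Coherent.isCoh_kernel a (isCoh_ET x E hE C₀) hMc.1)).1
  haveI : Coh.IsQCoh (F.obj G) := EGA43.InjFibre.isQCoh_pullback f G
  obtain ⟨ε, hε⟩ := exists_class hKc (F.map β) (F.map α ≫ eC.hom) w' hS' fun z => by
    obtain ⟨σ, hσ⟩ := LciLift29.exists_section_pullback f α z (hsec (f z))
    refine ⟨σ.comp (stk eC.inv z), fun v => ?_⟩
    rw [LinearMap.comp_apply, stk_comp, hσ, ← stk_comp, Iso.inv_hom_id, stk_id]
  let H := internalHomFunctor Kc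
  haveI := SerreDual.additive_internalHomFunctor Kc
  haveI : H.Linear k := SerreDual.linear_internalHom k Kc
  let ψ : Fin (Module.finrank k ↥J) → (F.obj (⨁ fun _ : Fin (Module.finrank k ↥J) => Qu) ⟶ O) := fun j =>
    F.map (biproduct.π (fun _ : Fin (Module.finrank k ↥J) => Qu) j) ≫ (ad.homEquiv Qu O).symm μ.hom
  let w : Fin (Module.finrank k ↥J) → Ext ((Coherent.freeModOn Y).obj ⊤) (internalHom Kc O) 1 := fun j =>
    ε.comp (Ext.mk₀ (H.map (ψ j))) (add_zero 1)
  refine ⟨∑ j, (LinearMap.applyₗ (b j)).smulRight (w j), fun ℓ hℓ L hL hLJ hmem g' hg' =>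
    exists_lift_of_retraction x E hE C₀ J hJm hJ0 KA b hM ℓ ?_ L hL hLJ hmem g' hg'⟩
  let c : Fin (Module.finrank k ↥J) → k := fun j => ℓ (b j)
  let comb : (⨁ fun _ : Fin (Module.finrank k ↥J) => Qu) ⟶ Qu :=
    ∑ j, biproduct.π (fun _ : Fin (Module.finrank k ↥J) => Qu) j ≫ sc (projB x) Qu (c j)
  let φ := F.map comb ≫ (ad.homEquiv Qu O).symm μ.hom
  have hφ : φ = ∑ j, c j • ψ j := by
    show F.map comb ≫ _ = _
    rw [F.map_sum, Preadditive.sum_comp]
    refine Finset.sum_congr rfl fun j _ => ?_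
    rw [KLin.smul_def, Formal.smulMod, smulModΓ_eq_scalarEnd, F.map_comp, map_sc hfq Qu (c j), sc_natural]
    exact (Category.assoc _ _ _).trans ((congrArg (F.map _ ≫ ·) (sc_natural _ _ _)).trans (Category.assoc _ _ _).symm)
  have h0 : ε.comp (Ext.mk₀ (H.map φ)) (add_zero 1) = 0 := by
    rw [hφ, H.map_sum, Ext.mk₀_sum, Ext.comp_sum]
    refine Eq.trans ?_ hℓ
    refine Eq.trans (Finset.sum_congr rfl fun j _ => ?_) (LinearMap.sum_apply _ _ _).symm
    rw [H.map_smul, Ext.mk₀_smul, Ext.comp_smul]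
    rfl
  obtain ⟨r, hr⟩ := hε O φ h0
  refine ⟨ad.homEquiv _ _ r ≫ μ.inv, ?_⟩
  have h1 : β ≫ ad.homEquiv _ _ r = comb ≫ μ.hom := by
    rw [← ad.homEquiv_naturality_left, hr]
    show ad.homEquiv _ _ (F.map comb ≫ _) = _
    rw [ad.homEquiv_naturality_left, Equiv.apply_symm_apply]
  rw [← Category.assoc]
  exact (congrArg (· ≫ μ.inv) h1).trans (by rw [Category.assoc, Iso.hom_inv_id, Category.comp_id])

include hi hreg in
/-- Vanishing classes give lifts of embedded deformations. -/
theorem exists_obsMap_localHilb (C₀ : Art k k) (J : Ideal C₀) (hJm : J ≤ maximalIdeal C₀)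
    (hJ0 : ∀ a ∈ maximalIdeal C₀, ∀ z ∈ J, a * z = 0) (D : (localHilb X x i.ker).obj (Art.quot C₀ J hJm)) :
    ∃ o : (↥J →ₗ[k] k) →ₗ[k]
        Ext ((Coherent.freeModOn Y).obj ⊤) (internalHom (Omega.conormal i) (Coh.structureModule Y)) 1,
      ∀ ℓ, o ℓ = 0 →
      ∀ (L : Ideal C₀) (hL : L ≤ maximalIdeal C₀) (hLJ : L ≤ J),
        (∀ z (hz : z ∈ J), z ∈ L ↔ ℓ ⟨z, hz⟩ = 0) →
          ∀ (g' : Art.quot C₀ L hL ⟶ Art.quot C₀ J hJm),
            (∀ z, g' (Art.quotMk C₀ L hL z) = Art.quotMk C₀ J hJm z) →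
            ∃ D' : (localHilb X x i.ker).obj (Art.quot C₀ L hL), (localHilb X x i.ker).map g' D' = D := by
  obtain ⟨I, hI, hI₀⟩ := D
  obtain ⟨K, hK⟩ := exists_quotSet_KofI X x hI
  obtain ⟨o, ho⟩ := exists_obsMap_emb X x i hi hreg C₀ J hJm hJ0 K (by rw [hK, fibreK_KofI X x hI₀])
  refine ⟨o, fun ℓ hℓ L hL hLJ hmem g' hg' => ?_⟩
  obtain ⟨K', hK'⟩ := ho ℓ hℓ L hL hLJ hmem g' hg'
  obtain ⟨I', hI', hK'I⟩ := exists_ideal_of_quotSet X x K'
  rw [hK'I, quotPull_KofI, hK] at hK'
  have hp' := KofI_injective X x _ hK'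
  refine ⟨⟨I', hI', ?_⟩, Subtype.ext hp'⟩
  rw [← hI₀, ← hp', ← Scheme.IdealSheafData.comap_comp, Art.XAincl_XAmap]

end Groth.Agent.LiftClass29

end
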