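import Groth.Agent.LiftClass29.EmbDef
import Groth.Agent.ObsDim29.ProRep
import Groth.Agent.CurveRR24.RR
import Groth.Agent.Coherent.Existence.HomAffine
import Groth.Agent.Coherent.InternalHomAdj

/-!
# Obstructions at a point of the Hilbert scheme in `H¹` of the normal sheaf
-/

set_option autoImplicit false
set_option backward.isDefEq.respectTransparency false
set_option backward.isDefEq.respectTransparency.types false
set_option linter.style.haveILetI false
set_option linter.unusedSectionVars false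

universe u

open CategoryTheory CategoryTheory.Abelian CategoryTheory.Limits AlgebraicGeometry IsLocalRing ArtFun ArtFun.Art
open Groth.Agent.ArtFunLib.QuotLift Groth.Agent.H8Coh.RatTangent Groth.Agent.Coherent

noncomputable section

namespace Groth.Agent.LiftClass29

variable {k : Type u} [Field k] {X : Scheme.{u}} [X.Over (Spec (CommRingCat.of k))]

/-- `Ext¹` out of the free module is `H¹` of the sheaf of homomorphisms. -/
def extEquivHH [HasExt.{u} X.Modules] (C N : X.Modules) [DCoh.HasSheafHom C] :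
    Ext ((Coherent.freeModOn X).obj ⊤) (internalHom C N) 1 ≃ₗ[k] Coh.HH X ((DCoh.sheafHom C).obj N) 1 :=
  (SerreDual.extHHLin k (internalHom C N) 1).trans
    (SerreDual.hmapIso k ((Coherent.sheafHomIso C).app N).symm 1)

variable (k) in
theorem finite_HH_normal [IsProper (X ↘ Spec (CommRingCat.of k))] {Y : Scheme.{u}} [IsLocallyNoetherian Y] (i : X ⟶ Y)
    [IsClosedImmersion i] [DCoh.HasSheafHom (Omega.conormal i)] (q : ℕ) :
    Module.Finite k (Coh.HH X ((DCoh.sheafHom (Omega.conormal i)).obj (Coh.structureModule X)) q) := by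
  haveI : IsLocallyNoetherian X := LocallyOfFiniteType.isLocallyNoetherian i
  exact CurveRR24.finite_HH_of_isCoh k
    (Coherent.isCoh_of_iso ((Coherent.sheafHomIso (Omega.conormal i)).app (Coh.structureModule X)).symm
      (Coherent.Existence.isCoh_internalHom (ZClosLib.isCoh_pullback _ _ (CurveRR24.isCoh_idealMod' i.ker))
        (Coherent.isCoh_structureModule X))) q

variable {Y : Scheme.{u}} {y : Y ⟶ specPt k} {H : Over (specPt k)} {Z : FGA.HilbSet y H} {i : X ⟶ Y}
  [IsClosedImmersion i] [IsProper y] (hH : FGA.HilbRepresentedBy y H Z) {h : Over.mk (𝟙 (specPt k)) ⟶ H}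
  (hh : FGA.hilbPull y h Z.1 = i.ker.comap (pullback.fst y (Over.mk (𝟙 (specPt k))).hom))
  (hi : i ≫ y = X ↘ Spec (CommRingCat.of k)) (hreg : Mor2.IsRegularClosedImmersion i) [HasExt.{u} X.Modules]

include hH hh hi hreg in
/-- The Hilbert scheme has linear obstruction classes in `H¹` of the normal sheaf. -/
theorem hasLinObs_hilb (gb : TA (Art.base k k) ⟶ H) (hgb : gb.left = h.left) :
    letI := (ρ H.hom (ptQ gb)).toAlgebra
    ∀ resO : H.left.presheaf.stalk (pt (ptQ gb)) →ₐ[k] k, (∀ a, resO a = χ (ptQ gb) a) →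
      ObsDim29.HasLinObs (H.left.presheaf.stalk (pt (ptQ gb))) resO
        (Ext ((Coherent.freeModOn X).obj ⊤) (internalHom (Omega.conormal i) (Coh.structureModule X)) 1) := by
  letI := (ρ H.hom (ptQ gb)).toAlgebra
  intro resO hres C₀ J hJm hJ0 u
  let A := Art.quot C₀ J hJm
  let g : HilbT29.overA A ⟶ H := pointOf gb u.1.toRingHom fun c => u.1.commutes c
  have hcen : specRes A ≫ g.left = h.left := by
    rw [← hgb]
    show Spec.map _ ≫ Spec.map _ ≫ _ = _
    rw [← Category.assoc, ← Spec.map_comp, ← CommRingCat.ofHom_comp]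
    refine Eq.trans ?_ (specMap_χ (ptQ gb))
    congr 3
    exact RingHom.ext fun a => (AlgHom.congr_fun u.2 a).trans (hres a)
  obtain ⟨o, ho⟩ := exists_obsMap_localHilb Y y i hi hreg C₀ J hJm hJ0 (HilbT29.defOf hh g hcen)
  refine ⟨o, fun ℓ hℓ L hL hLJ hmem => ?_⟩
  let g' := Art.quotFactor hL (Art.quotMk C₀ J hJm) (fun z hz => Ideal.Quotient.eq_zero_iff_mem.2 (hLJ hz))
  obtain ⟨D', hD'⟩ := ho ℓ hℓ L hL hLJ hmem g' fun z => rfl
  obtain ⟨gv, hgv, hdef⟩ := HilbT29.exists_point hh hH D'
  obtain ⟨θ, hθ, hθres, hθρ⟩ := exists_ring_map gb gv (hgv.trans hgb.symm)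
  refine ⟨⟨{ θ with commutes' := hθρ }, AlgHom.ext fun a => (RingHom.congr_fun hθres a).trans (hres a).symm⟩,
    fun q' hq' => Subtype.ext ?_⟩
  obtain rfl : q' = g' := Art.hom_ext (AlgHom.ext fun z => by
    obtain ⟨z, rfl⟩ := Art.quotMk_surjective C₀ L hL z
    exact hq' z)
  have hw : (specMap g' ≫ gv.left) ≫ H.hom = specOver A := by
    rw [Category.assoc, Over.w gv]
    exact specOver_comp g'
  let g'' : HilbT29.overA A ⟶ H := Over.homMk (specMap g' ≫ gv.left) hw
  have he : g'' = g := HilbT29.eq_of_pullZ_eq hH g'' g ((HilbT29.pullZ_map g' gv g'' rfl).trans (by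
    rw [show HilbT29.pullZ Z gv = D'.1 from congrArg Subtype.val hdef]
    exact congrArg Subtype.val hD'))
  refine AlgHom.coe_ringHom_injective (eq_of_specMap ?_)
  show Spec.map (CommRingCat.ofHom (g'.toAlgHom.toRingHom.comp θ)) ≫ _ = g.left
  rw [CommRingCat.ofHom_comp, Spec.map_comp, Category.assoc, hθ, ← he]
  rfl

end Groth.Agent.LiftClass29

end
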