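import Groth.Agent.HilbT29.Finrank
import Mathlib.LinearAlgebra.Basis.VectorSpace
import Groth.Prelude.Def_ArtFun2
import Groth.Agent.ArtFunLib.Basic

/-!
# The tangent space of a ring pro-representing embedded deformations
-/

set_option autoImplicit false
set_option backward.isDefEq.respectTransparency.types false
set_option backward.isDefEq.respectTransparency false
set_option linter.style.haveILetI false
universe u

open CategoryTheory CategoryTheory.Limits AlgebraicGeometry TopologicalSpace Opposite ArtFun ArtFun.Art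
open Groth.Agent.ArtGlobal29 Groth.Agent.HilbT29
open IsLocalRing (CotangentSpace maximalIdeal)

noncomputable section

namespace Groth.Agent.LiftClass29

variable {k : Type u} [Field k]

section Ring

variable (R : CRing k k)

theorem sub_res_mem (r : R.carrier) : r - algebraMap k R.carrier (R.res r) ∈ maximalIdeal R.carrier := by
  rw [CRing.mem_maximalIdeal_iff, map_sub]
  exact sub_eq_zero.2 (R.res.commutes _).symm

/-- The derivation of a tangent form. -/
def derOf (E : CotangentSpace R.carrier →ₗ[k] k) (r : R.carrier) : k :=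
  E ((maximalIdeal R.carrier).toCotangent ⟨_, sub_res_mem R r⟩)

theorem derOf_mem (E : CotangentSpace R.carrier →ₗ[k] k) (z : maximalIdeal R.carrier) :
    derOf R E z.1 = E ((maximalIdeal R.carrier).toCotangent z) := by
  refine congrArg (fun w => E ((maximalIdeal R.carrier).toCotangent w)) (Subtype.ext ?_)
  show z.1 - _ = z.1
  rw [(CRing.mem_maximalIdeal_iff R _).1 z.2, map_zero, sub_zero]

theorem derOf_add (E : CotangentSpace R.carrier →ₗ[k] k) (a b : R.carrier) :
    derOf R E (a + b) = derOf R E a + derOf R E b := by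
  unfold derOf
  rw [← map_add, ← map_add]
  exact congrArg (fun w => E ((maximalIdeal R.carrier).toCotangent w)) (Subtype.ext (by
    show a + b - _ = a - _ + (b - _)
    rw [map_add, map_add]; ring))

theorem derOf_algebraMap (E : CotangentSpace R.carrier →ₗ[k] k) (c : k) :
    derOf R E (algebraMap k R.carrier c) = 0 := by
  unfold derOf
  rw [show (⟨_, sub_res_mem R (algebraMap k R.carrier c)⟩ : maximalIdeal R.carrier) = 0 from Subtype.ext (by
    show algebraMap k R.carrier c - _ = 0
    rw [R.res.commutes]
    exact sub_self _), map_zero, map_zero]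

theorem derOf_mul (E : CotangentSpace R.carrier →ₗ[k] k) (a b : R.carrier) :
    derOf R E (a * b) = R.res a * derOf R E b + R.res b * derOf R E a := by
  let T : maximalIdeal R.carrier →ₗ[k] CotangentSpace R.carrier :=
    (maximalIdeal R.carrier).toCotangent.restrictScalars k
  let A : maximalIdeal R.carrier := ⟨_, sub_res_mem R a⟩
  let B : maximalIdeal R.carrier := ⟨_, sub_res_mem R b⟩
  let C : maximalIdeal R.carrier := ⟨_, sub_res_mem R (a * b)⟩
  show E (T C) = R.res a * E (T B) + R.res b * E (T A)
  have h0 : T (C - (R.res a • B + R.res b • A)) = 0 := by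
    refine (Ideal.toCotangent_eq_zero _ _).2 ?_
    have h : ((C - (R.res a • B + R.res b • A) : maximalIdeal R.carrier) : R.carrier) = A.1 * B.1 := by
      simp only [Submodule.coe_sub, Submodule.coe_add, Submodule.coe_smul_of_tower, Algebra.smul_def, A, B, C,
        map_mul]
      ring
    rw [h, sq]
    exact Ideal.mul_mem_mul A.2 B.2
  rw [map_sub, sub_eq_zero] at h0
  rw [h0, map_add, map_add, map_smul, map_smul, map_smul, map_smul]
  rfl

/-- The first order point of a tangent form. -/
def epsHom (E : CotangentSpace R.carrier →ₗ[k] k) : R.carrier →ₐ[k] DualNumber k where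
  toFun r := TrivSqZeroExt.inl (R.res r) + TrivSqZeroExt.inr (derOf R E r)
  map_one' := TrivSqZeroExt.ext (by simp) (by
    simpa using (congrArg (derOf R E) (map_one (algebraMap k R.carrier))).symm.trans (derOf_algebraMap R E 1))
  map_zero' := TrivSqZeroExt.ext (by simp) (by
    simpa using (congrArg (derOf R E) (map_zero (algebraMap k R.carrier))).symm.trans (derOf_algebraMap R E 0))
  map_add' a b := TrivSqZeroExt.ext (by simp) (by simp [derOf_add])
  map_mul' a b := TrivSqZeroExt.ext (by simp) (by simp [derOf_mul, TrivSqZeroExt.snd_mul, mul_comm])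
  commutes' c := TrivSqZeroExt.ext (by simp [TrivSqZeroExt.algebraMap_eq_inl])
    (by simp [derOf_algebraMap, TrivSqZeroExt.algebraMap_eq_inl])

/-- The first order point of a tangent form, as an element of the functor of `R`. -/
def epsPoint (E : CotangentSpace R.carrier →ₗ[k] k) : HomSet R.carrier R.res (Ad k) :=
  ⟨epsHom R E, AlgHom.ext fun r => by
    show TrivSqZeroExt.fst (TrivSqZeroExt.inl (R.res r) + TrivSqZeroExt.inr (derOf R E r)) = R.res r
    simp⟩

theorem bijective_epsPoint : Function.Bijective (epsPoint R) := by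
  constructor
  · intro E E' h
    refine LinearMap.ext fun z => ?_
    obtain ⟨z, rfl⟩ := (maximalIdeal R.carrier).toCotangent_surjective z
    have h1 := congrArg (fun w => TrivSqZeroExt.snd (show DualNumber k from w.1 z.1)) h
    change TrivSqZeroExt.snd (TrivSqZeroExt.inl (R.res z.1) + TrivSqZeroExt.inr (derOf R E z.1)) =
      TrivSqZeroExt.snd (TrivSqZeroExt.inl (R.res z.1) + TrivSqZeroExt.inr (derOf R E' z.1)) at h1
    have h2 : derOf R E z.1 = derOf R E' z.1 := by
      rwa [TrivSqZeroExt.snd_add, TrivSqZeroExt.snd_add, TrivSqZeroExt.snd_inl, TrivSqZeroExt.snd_inr,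
        TrivSqZeroExt.snd_inr, zero_add, zero_add] at h1
    rwa [derOf_mem, derOf_mem] at h2
  · intro φ
    let f : R.carrier →ₐ[k] DualNumber k := φ.1
    have hfst : ∀ r, TrivSqZeroExt.fst (f r) = R.res r := fun r => AlgHom.congr_fun φ.2 r
    let T : maximalIdeal R.carrier →ₗ[k] CotangentSpace R.carrier :=
      (maximalIdeal R.carrier).toCotangent.restrictScalars k
    let g : maximalIdeal R.carrier →ₗ[k] k :=
      { toFun := fun z => TrivSqZeroExt.snd (f z.1)
        map_add' := fun z w => by simp
        map_smul' := fun c z => by simp }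
    obtain ⟨s, hs⟩ := LinearMap.exists_rightInverse_of_surjective T
      (LinearMap.range_eq_top.2 (show Function.Surjective T from (maximalIdeal R.carrier).toCotangent_surjective))
    have hzero : ∀ r ∈ maximalIdeal R.carrier ^ 2, TrivSqZeroExt.snd (f r) = 0 := fun r hr => by
      rw [sq] at hr
      refine Submodule.mul_induction_on hr (fun a ha b hb => ?_) fun a b ha hb => ?_
      · rw [map_mul, TrivSqZeroExt.snd_mul, hfst, hfst, (CRing.mem_maximalIdeal_iff R _).1 ha,
          (CRing.mem_maximalIdeal_iff R _).1 hb]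
        simp
      · rw [map_add, TrivSqZeroExt.snd_add, ha, hb, add_zero]
    have hg : ∀ z, g (s (T z)) = g z := fun z => by
      have h := hzero _ ((Ideal.toCotangent_eq_zero _ (s (T z) - z)).1 (by
        show T (s (T z) - z) = 0
        rw [map_sub, show T (s (T z)) = T z from LinearMap.congr_fun hs (T z), sub_self]))
      rw [Submodule.coe_sub, map_sub, TrivSqZeroExt.snd_sub, sub_eq_zero] at h
      exact h
    refine ⟨g ∘ₗ s, Subtype.ext (AlgHom.ext fun r => ?_)⟩
    show TrivSqZeroExt.inl (R.res r) + TrivSqZeroExt.inr (derOf R (g ∘ₗ s) r) = f r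
    refine TrivSqZeroExt.ext (by simp [hfst]) ?_
    have h1 : derOf R (g ∘ₗ s) r = TrivSqZeroExt.snd (f (r - algebraMap k R.carrier (R.res r))) :=
      hg ⟨_, sub_res_mem R r⟩
    simp [h1, TrivSqZeroExt.algebraMap_eq_inl]

end Ring

variable {Y X : Scheme.{u}} {y : Y ⟶ specPt k} {i : X ⟶ Y} [IsClosedImmersion i]
  (P : ProRep (localHilb Y y i.ker))

/-- Tangent forms of a pro-representing ring are homomorphisms from the ideal. -/
theorem nonempty_dual_equiv_hom_proRep [Y.Over (Spec (CommRingCat.of k))] (hy : Y ↘ Spec (CommRingCat.of k) = y)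
    [i.ker.subscheme.Over (Spec (CommRingCat.of k))] :
    Nonempty ((CotangentSpace P.ring.carrier →ₗ[k] k) ≃ₗ[k] (iM i.ker ⟶ oY i.ker)) := by
  let R := P.ring
  let J : (CotangentSpace R.carrier →ₗ[k] k) → T y i.ker := fun E => P.family.app (Ad k) (epsPoint R E)
  have hscale : ∀ (c : k) E, (localHilb Y y i.ker).map (scale c) (J E) = J (c • E) := fun c E => by
    refine (P.family.natural _ _).symm.trans (congrArg _ (Subtype.ext (AlgHom.ext fun r => ?_)))
    show tszeMap (Λ := k) (c • LinearMap.id) (epsHom R E r) = epsHom R (c • E) r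
    refine TrivSqZeroExt.ext ?_ ?_ <;> simp [tszeMap, epsHom, derOf]
  have hadd : ∀ E E', ∃ z : (localHilb Y y i.ker).obj (Ad2 k), (localHilb Y y i.ker).map Art.pr₁ z = J E ∧
      (localHilb Y y i.ker).map Art.pr₂ z = J E' ∧ (localHilb Y y i.ker).map Art.plus z = J (E + E') := by
    intro E E'
    let f : R.carrier →ₐ[k] TrivSqZeroExt k (k × k) :=
      { toFun := fun r => TrivSqZeroExt.inl (R.res r) + TrivSqZeroExt.inr (derOf R E r, derOf R E' r)
        map_one' := by
          have h : ∀ F, derOf R F 1 = 0 := fun F => by simpa using derOf_algebraMap R F 1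
          refine TrivSqZeroExt.ext ?_ ?_ <;> simp [h]
        map_zero' := by
          have h : ∀ F, derOf R F 0 = 0 := fun F => by simpa using derOf_algebraMap R F 0
          refine TrivSqZeroExt.ext ?_ ?_ <;> simp [h]
        map_add' := fun a b => TrivSqZeroExt.ext (by simp) (by simp [derOf_add])
        map_mul' := fun a b => TrivSqZeroExt.ext (by simp) (Prod.ext
          (by simp [derOf_mul, TrivSqZeroExt.snd_mul, mul_comm]) (by simp [derOf_mul, TrivSqZeroExt.snd_mul, mul_comm]))
        commutes' := fun c => TrivSqZeroExt.ext (by simp [TrivSqZeroExt.algebraMap_eq_inl])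
          (by simp [derOf_algebraMap, TrivSqZeroExt.algebraMap_eq_inl]) }
    let φ : HomSet R.carrier R.res (Ad2 k) := ⟨f, AlgHom.ext fun r => by
      show TrivSqZeroExt.fst (TrivSqZeroExt.inl (R.res r) + TrivSqZeroExt.inr (derOf R E r, derOf R E' r)) = R.res r
      simp⟩
    refine ⟨P.family.app _ φ, ?_, ?_, ?_⟩ <;>
      refine (P.family.natural _ _).symm.trans (congrArg _ (Subtype.ext (AlgHom.ext fun r => ?_)))
    · show tszeMap (Λ := k) (LinearMap.fst k k k) (f r) = epsHom R E r
      refine TrivSqZeroExt.ext ?_ ?_ <;> simp [tszeMap, f, epsHom]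
    · show tszeMap (Λ := k) (LinearMap.snd k k k) (f r) = epsHom R E' r
      refine TrivSqZeroExt.ext ?_ ?_ <;> simp [tszeMap, f, epsHom]
    · show tszeMap (Λ := k) (LinearMap.fst k k k + LinearMap.snd k k k) (f r) = epsHom R (E + E') r
      refine TrivSqZeroExt.ext ?_ ?_ <;> simp [tszeMap, f, epsHom, derOf]
  let e₀ : (CotangentSpace R.carrier →ₗ[k] k) → (iM i.ker ⟶ oY i.ker) := fun E =>
    (Equiv.ofBijective _ ⟨ofHomY_injective, ofHomY_surjective⟩).symm (toNH (J E))
  have he₀ : ∀ E, ofHomY (e₀ E) = toNH (J E) := fun E =>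
    (Equiv.ofBijective _ ⟨ofHomY_injective, ofHomY_surjective⟩).apply_symm_apply _
  have hbij : Function.Bijective e₀ :=
    (Equiv.bijective _).comp ((equivNH y).bijective.comp ((P.universal _).comp (bijective_epsPoint R)))
  have hstr : ∀ (U : Y.affineOpens) (c : k), strMap (Y ↘ Spec (CommRingCat.of k)) U.1 c = strMap y U.1 c := by
    intro U c; rw [hy]
  refine ⟨{ Equiv.ofBijective e₀ hbij with
    map_add' := fun E E' => ofHomY_injective (NH.ext _ fun U f => ?_)
    map_smul' := fun c E => ofHomY_injective (NH.ext _ fun U f => ?_) }⟩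
  · show (ofHomY (e₀ (E + E'))).φ U f = (ofHomY (e₀ E + e₀ E')).φ U f
    obtain ⟨z, h₁, h₂, h₃⟩ := hadd E E'
    rw [ofHomY_add, he₀, he₀, he₀, ← h₁, ← h₂, ← h₃]
    exact toNH_plus y z U f
  · show (ofHomY (e₀ (c • E))).φ U f = (ofHomY (c • e₀ E)).φ U f
    rw [ofHomY_smul, he₀, he₀, hstr, ← hscale]
    exact toNH_scale y c (J E) U f

end Groth.Agent.LiftClass29

end
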